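import Cfsg.Agent.H83.Rg.Max55
import Cfsg.Agent.H951.Rg.Max93F
import Cfsg.Agent.S5797

/-!
# S3691-T12: `kext_five`, `kext_nine` (helper83)
-/

set_option autoImplicit false
set_option linter.unusedSectionVars false

namespace Cfsg.Agent.H83.Rg

open Module QuadraticMap Cfsg Cfsg.Geo Cfsg.Agent.LieClassical.OrthCore Cfsg.Agent.LieClassical.OrthTrans
  Cfsg.Agent.H955 Cfsg.Agent.H954.TSing Cfsg.Agent.H884.El Cfsg.Agent.H278.Cov Cfsg.Agent.H449.Reg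
open Cfsg.Agent.H951 (fx cm Inv)

universe v

variable {F : Type} [Field F] [Fintype F] {V : Type v} [AddCommGroup V] [Module F V] [FiniteDimensional F V]
  {Q : QuadraticForm F V} {H A : Subgroup (V ≃ₗ[F] V)}

theorem max55 : MAX 5 5 := max55_of fun q hF H hH hS => S5797.result q hF H hH hS

theorem max93 : MAX 9 3 := fun hp hf hE hr _ hH _ hx ho hbig => H951.Rg.max93 hp hf hE hr hH hx ho hbig

theorem kext_five {p f r a : ℕ} (_h5 : 5 ≤ p ^ f) (hn : finrank F V = 10) (hQ : Nondeg Q) (hA : A ≤ O Q) (hK : AExt 2 A)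
    (hp : p.Prime) (hF : Fintype.card F = p ^ f) (hr : PP p (f * 10) r)
    {g : V ≃ₗ[F] V} (hg : g ∈ A) (ho : orderOf g = r ^ a) (hbig : 21 < r ^ a) (_hdvd : r ^ a ∣ (p ^ f) ^ 10 - 1)
    (hN : ∃ N, N ∣ Nat.card A ∧ N.Coprime ((p ^ f) ^ 10 - 1) ∧ ¬ N ∣ 10) :
    (∀ t, PP (p ^ f) 6 t → t ∣ Nat.card A) ∨ (∀ t, PP (p ^ f) 8 t → t ∣ Nat.card A) :=
  kext_five_of max55 hn hQ hA hK hp hF hr hg ho hbig hN

theorem kext_nine {p f r a : ℕ} (hn : finrank F V = 18) (hQ : Nondeg Q) (hA : A ≤ O Q) (hK : AExt 2 A)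
    (hp : p.Prime) (hF : Fintype.card F = p ^ f) (hr : PP p (f * 18) r)
    {g : V ≃ₗ[F] V} (hg : g ∈ A) (ho : orderOf g = r ^ a) (hbig : 37 < r ^ a) (_hdvd : r ^ a ∣ (p ^ f) ^ 18 - 1)
    {t : ℕ} (ht : PP (p ^ f) 8 t) (htA : t ∣ Nat.card A) :
    (∀ t, PP (p ^ f) 14 t → t ∣ Nat.card A) ∨ (∀ t, PP (p ^ f) 16 t → t ∣ Nat.card A) :=
  kext_nine_of max93 hn hQ hA hK hp hF hr hg ho hbig ht htA

end Cfsg.Agent.H83.Rg
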