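import Cfsg.Agent.H83.Rg.Her
import Cfsg.Agent.H655.Rg.KExt
import Cfsg.Agent.H981.Cov.Inc
import Cfsg.Agent.H905.SLProper
import Cfsg.Agent.H912.Core4

/-!
# S3691-T12: groups of isometries normalising a quadratic field, `m` odd, `m < 10` (helper83)

* `MAX m s` : the maximal subgroups of `SU_m(q)` containing an element of order `r ^ a > 4 m + 1` normalise a field of degree `s`
* `card_dvd_cz` : `|B|` divides `s |C_B(K)|`, `K` a field of degree `s`; `card_cz_dvd` : fields of full degree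
* `unit_main` : `A` contains `SU_m(q)`, or its order divides `2 (q ^ 2 - 1) |L|`, `L` normalising a field of degree `s`
-/

set_option autoImplicit false

namespace Cfsg.Agent.H83.Rg

open Module Cfsg Cfsg.Geo Cfsg.Agent.LieClassical.OrthCore Cfsg.Agent.LieClassical.OrthTrans
  Cfsg.Agent.H955 Cfsg.Agent.H954.TSing Cfsg.Agent.H884.El Cfsg.Agent.H278.Cov Cfsg.Agent.H449.Reg Cfsg.Agent.H655.Rg
open Cfsg.Agent.H951 (fx cm Inv)
open scoped MatrixGroups Matrix

universe u v

/-- the maximal subgroups of `SU_m(q)` containing an element of order `r ^ a`, `r` primitive for `q ^ (2 m) - 1` -/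
def MAX (m s : ℕ) : Prop := ∀ {E : Type} [Field E] [Fintype E] {p f r a : ℕ}, p.Prime → 1 ≤ f →
  Fintype.card E = (p ^ f) ^ 2 → Cfsg.Agent.H884.El.PP p (f * (2 * m)) r → ∀ {H : Subgroup (GL (Fin m) E)},
  Cfsg.Geo.IsMaximalIn (Cfsg.GU m E (p ^ f) ⊓ Cfsg.Geo.specialLinear (Fin m) E) H → ∀ {x : GL (Fin m) E}, x ∈ H →
  orderOf x = r ^ a → 4 * m + 1 < r ^ a → ∃ K : Subalgebra E (Matrix (Fin m) (Fin m) E),
    Cfsg.Geo.IsFieldSubalgebra s K ∧ H ≤ Cfsg.Geo.subalgebraNormalizer K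

section Cz

variable {F : Type u} [Field F] [Fintype F] {n s : ℕ} {K : Subalgebra F (Matrix (Fin n) (Fin n) F)}

theorem card_dvd_cz [Nonempty (Fin n)] (hK : IsFieldSubalgebra s K) {B : Subgroup (GL (Fin n) F)}
    (hB : B ≤ subalgebraNormalizer K) : Nat.card B ∣ s * Nat.card (B.subgroupOf (cz K)) := by
  classical
  have hfin : Finite (GL (Fin n) F) := inferInstance
  have hN : H912.NormAlg B K := fun _ hh a ha => (hB hh a).mp ha
  let _ : Field K := (H912.isField_of_fieldSub hK).toField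
  have hfd : Module.Finite F K := inferInstance
  have hKfin : Finite K := Module.finite_of_finite F
  have hgal : IsGalois F K := inferInstance
  let ψ : B →* (K ≃ₐ[F] K) :=
    { toFun := fun h => H912.conjSub hN h
      map_one' := by
        apply AlgEquiv.ext
        intro x
        apply Subtype.ext
        rw [H912.conjSub_coe]
        simp
      map_mul' := fun a b => by
        apply AlgEquiv.ext
        intro x
        apply Subtype.ext
        rw [AlgEquiv.mul_apply, H912.conjSub_coe, H912.conjSub_coe, H912.conjSub_coe, Subgroup.coe_mul,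
          _root_.mul_inv_rev, Units.val_mul, Units.val_mul]
        simp only [Matrix.mul_assoc] }
  have hran : Nat.card ψ.range ∣ s := by
    have h1 : Nat.card (K ≃ₐ[F] K) = s := by
      rw [IsGalois.card_aut_eq_finrank, hK.finrank_eq]
    rw [← h1]
    exact Subgroup.card_subgroup_dvd_card _
  have hker : Nat.card ψ.ker ∣ Nat.card (B.subgroupOf (cz K)) := by
    have hmem : ∀ g : ψ.ker, ((g : B) : GL (Fin n) F) ∈ cz K := by
      intro g k hk
      have h1 : (H912.conjSub hN (g : B)) = 1 := g.2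
      have h2 := H912.conjSub_coe hN (g : B) ⟨k, hk⟩
      rw [h1] at h2
      change k = _ at h2
      conv_rhs => rw [h2]
      change ((g : B) : GL (Fin n) F).val * k = ((g : B) : GL (Fin n) F).val * k * ((((g : B) : GL (Fin n) F)⁻¹ : GL (Fin n) F) :
        Matrix (Fin n) (Fin n) F) * ((g : B) : GL (Fin n) F).val
      rw [Matrix.mul_assoc, ← Units.val_mul, inv_mul_cancel, Units.val_one, Matrix.mul_one]
    let θ : ψ.ker →* B.subgroupOf (cz K) :=
      { toFun := fun g => ⟨⟨_, hmem g⟩, (g : B).2⟩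
        map_one' := rfl
        map_mul' := fun _ _ => rfl }
    refine Subgroup.card_dvd_of_injective θ ?_
    intro a b hab
    apply Subtype.ext
    apply Subtype.ext
    exact congrArg (fun z : B.subgroupOf (cz K) => ((z : cz K) : GL (Fin n) F)) hab
  have h1 := Subgroup.card_eq_card_quotient_mul_card_subgroup ψ.ker
  have h2 : Nat.card (B ⧸ ψ.ker) = Nat.card ψ.range :=
    Nat.card_congr (QuotientGroup.quotientKerEquivRange ψ).toEquiv
  rw [h1, h2]
  exact Nat.mul_dvd_mul hran hker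

theorem card_cz_dvd (hn : 0 < n) (hK : IsFieldSubalgebra n K) : Nat.card (cz K) ∣ Fintype.card F ^ n - 1 := by
  obtain ⟨E, iE, iF, hE, ⟨φ⟩⟩ := exists_fr hK (m := 1) (by omega) hn one_pos
  have h1 := Subgroup.card_dvd_of_injective (liftHom φ) (lift_injective φ)
  have h2 : Nat.card (GL (Fin 1) E) = Fintype.card E - 1 := by
    rw [Matrix.card_GL_field]; simp
  rw [h2, hE] at h1
  exact h1

end Cz

/-- the determinant -/
theorem card_dvd_sl {E : Type} [Field E] [Fintype E] {m : ℕ} (L : Subgroup (GL (Fin m) E)) :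
    Nat.card L ∣ Nat.card (L ⊓ specialLinear (Fin m) E : Subgroup (GL (Fin m) E)) * (Fintype.card E - 1) := by
  classical
  let d : L →* Eˣ := (Matrix.GeneralLinearGroup.det : GL (Fin m) E →* Eˣ).comp L.subtype
  have h1 := Subgroup.card_eq_card_quotient_mul_card_subgroup d.ker
  have h2 : Nat.card (L ⧸ d.ker) = Nat.card d.range := Nat.card_congr (QuotientGroup.quotientKerEquivRange d).toEquiv
  have h3 : Nat.card d.range ∣ Fintype.card E - 1 := by
    have := Subgroup.card_subgroup_dvd_card d.range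
    rwa [Nat.card_units, Nat.card_eq_fintype_card (α := E)] at this
  have h4 : Nat.card d.ker ∣ Nat.card (L ⊓ specialLinear (Fin m) E : Subgroup (GL (Fin m) E)) := by
    have hmem : ∀ g : d.ker, ((g : L) : GL (Fin m) E) ∈ (L ⊓ specialLinear (Fin m) E : Subgroup (GL (Fin m) E)) := by
      intro g
      exact ⟨(g : L).2, g.2⟩
    let θ : d.ker →* (L ⊓ specialLinear (Fin m) E : Subgroup (GL (Fin m) E)) :=
      { toFun := fun g => ⟨_, hmem g⟩
        map_one' := rfl
        map_mul' := fun _ _ => rfl }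
    refine Subgroup.card_dvd_of_injective θ ?_
    intro a b hab
    apply Subtype.ext
    apply Subtype.ext
    exact congrArg (fun z : (L ⊓ specialLinear (Fin m) E : Subgroup (GL (Fin m) E)) => (z : GL (Fin m) E)) hab
  rw [h1, h2, mul_comm]
  exact Nat.mul_dvd_mul h4 h3

section Main

variable {F : Type} [Field F] [Fintype F] {V : Type v} [AddCommGroup V] [Module F V] [FiniteDimensional F V]
  {Q : QuadraticForm F V} {A : Subgroup (V ≃ₗ[F] V)}

omit [FiniteDimensional F V] in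
theorem unit_main {m s : ℕ} (M : MAX m s) (hm : Odd m) (hm5 : 3 ≤ m) {p f r a : ℕ} (hn : finrank F V = 2 * m)
    (hQ : Nondeg Q) (hA : A ≤ O Q) (hK : AExt 2 A) (hp : p.Prime) (hF : Fintype.card F = p ^ f)
    (hr : PP p (f * (2 * m)) r) {g : V ≃ₗ[F] V} (hg : g ∈ A) (ho : orderOf g = r ^ a) (hbig : 4 * m + 1 < r ^ a) :
    (∀ t j, PP (p ^ f) (2 * j) t → Odd j → 3 ≤ j → j ≤ m → t ∣ Nat.card A) ∨
    ∃ (E : Type) (_ : Field E) (_ : Fintype E) (K : Subalgebra E (Matrix (Fin m) (Fin m) E)) (L : Subgroup (GL (Fin m) E)),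
      Fintype.card E = (p ^ f) ^ 2 ∧ IsFieldSubalgebra s K ∧ L ≤ subalgebraNormalizer K ∧
      Nat.card A ∣ 2 * (Nat.card L * ((p ^ f) ^ 2 - 1)) := by
  classical
  obtain ⟨n, φ₀, K, -, hKf, hle⟩ := hK
  have hn' := finrank_of_equiv φ₀
  have hn2 : n = 2 * m := by omega
  have hf : 1 ≤ f := by
    rcases Nat.eq_zero_or_pos f with h | h
    · exfalso
      rw [h, pow_zero] at hF
      have := Fintype.one_lt_card (α := F)
      omega
    · exact h
  set B := A.map (cj φ₀).toMonoidHom with hB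
  have hcard : Nat.card B = Nat.card A := Subgroup.card_map_of_injective (cj φ₀).injective
  have hgB : cj φ₀ g ∈ B := ⟨g, hg, rfl⟩
  have hgo : orderOf (cj φ₀ g) = r ^ a := by rw [MulEquiv.orderOf_eq, ho]
  have hne : Nonempty (Fin n) := ⟨⟨0, by omega⟩⟩
  have hrF : PP (Nat.card F) n r := by
    rw [Nat.card_eq_fintype_card, hF, hn2]
    exact PP.of_pow hr hf
  have hr2 : r ≠ 2 := by
    have := hrF.lt (by omega)
    omega
  obtain ⟨x, hxB, hxr, hx1, k, hk⟩ := exists_prime_pow hgB hr.prime hgo (by omega)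
  have hcop : ∀ {y : GL (Fin n) F}, (∃ i, orderOf y ∣ r ^ i) → Nat.Coprime (orderOf y) 2 := by
    rintro y ⟨i, hi⟩
    exact Nat.Coprime.coprime_dvd_left hi (Nat.Coprime.pow_left i ((Nat.coprime_primes hr.prime Nat.prime_two).2 hr2))
  have hxz : x ∈ cz K := mem_cz hKf hle hxB (hcop ⟨1, by rw [pow_one]; exact orderOf_dvd_of_pow_eq_one hxr⟩)
  have hgz : cj φ₀ g ∈ cz K := mem_cz hKf hle hgB (hcop ⟨a, by rw [hgo]⟩)
  -- the form
  let Bf : LinearMap.BilinForm F (Fin n → F) := QuadraticMap.polarBilin (tq Q φ₀)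
  have hBf : ∀ u v, Bf u v = QuadraticMap.polar (tq Q φ₀) u v := fun u v => rfl
  have hiso : ∀ b ∈ B, ∀ u v, Bf ((b : Matrix (Fin n) (Fin n) F) *ᵥ u) ((b : Matrix (Fin n) (Fin n) F) *ᵥ v) = Bf u v := by
    rintro _ ⟨c, hc, rfl⟩ u v
    have h1 := LieClassical.OrthFinite.mem_isometryGroup_iff.1 (cj_iso φ₀ (hA hc))
    rw [hBf, hBf]
    unfold QuadraticMap.polar
    rw [← Matrix.mulVec_add]
    rw [show tq Q φ₀ ((((cj φ₀).toMonoidHom c : GL (Fin n) F) : Matrix (Fin n) (Fin n) F) *ᵥ (u + v)) = tq Q φ₀ (u + v) from h1 _,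
      show tq Q φ₀ ((((cj φ₀).toMonoidHom c : GL (Fin n) F) : Matrix (Fin n) (Fin n) F) *ᵥ u) = tq Q φ₀ u from h1 _,
      show tq Q φ₀ ((((cj φ₀).toMonoidHom c : GL (Fin n) F) : Matrix (Fin n) (Fin n) F) *ᵥ v) = tq Q φ₀ v from h1 _]
  obtain ⟨E, iE, iFE, hE, φ, hφ⟩ := exists_her hKf hn2 hm Bf (fun u v => QuadraticMap.polar_comm _ _ _)
    (fun u hu => nondeg_tq hQ φ₀ u hu) hxz (hiso x hxB) hrF hxr hx1
  rw [hF] at hE hφ
  set L := low φ B with hL
  have hLGU : L ≤ Cfsg.GU m E (p ^ f) := by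
    rintro _ ⟨y, hy, rfl⟩
    exact hφ y (hiso _ hy)
  have hcL : Nat.card L = Nat.card (B.subgroupOf (cz K)) := Subgroup.card_map_of_injective (lift_injective φ)
  have hAL : Nat.card A ∣ 2 * Nat.card L := by
    rw [← hcard, hcL]
    exact card_dvd_cz hKf hle
  have hLA : Nat.card L ∣ Nat.card A := by
    rw [← hcard]
    exact card_low_dvd φ B
  set y := liftHom φ ⟨cj φ₀ g, hgz⟩ with hy
  have hyL : y ∈ L := mem_low φ hgz hgB
  have hyo : orderOf y = r ^ a := by rw [hy, order_lift, hgo]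
  -- the determinant of `y`
  have hyS : y ∈ specialLinear (Fin m) E := by
    change Matrix.GeneralLinearGroup.det y = 1
    have h1 : (Matrix.GeneralLinearGroup.det y) ^ (r ^ a) = 1 := by rw [← map_pow, ← hyo, pow_orderOf_eq_one, map_one]
    have h2 : (Matrix.GeneralLinearGroup.det y) ^ (Fintype.card E - 1) = 1 := by
      rw [← Fintype.card_units]; exact pow_card_eq_one
    have h3 : Nat.Coprime (r ^ a) (Fintype.card E - 1) := by
      apply Nat.Coprime.pow_left
      rw [hr.prime.coprime_iff_not_dvd, hE, ← hF, ← Nat.card_eq_fintype_card]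
      intro h4
      have h5 := (hrF.dvd_iff (by rw [Nat.card_eq_fintype_card]; exact Fintype.card_pos) 2).1 h4
      have := Nat.le_of_dvd (by norm_num) h5
      omega
    have h4 := pow_gcd_eq_one.2 ⟨h1, h2⟩
    rw [Nat.coprime_iff_gcd_eq_one.1 h3, pow_one] at h4
    exact h4
  have hLS : L ⊓ specialLinear (Fin m) E ≤ Cfsg.GU m E (p ^ f) ⊓ specialLinear (Fin m) E := inf_le_inf_right _ hLGU
  have hfG : Finite (GL (Fin m) E) := inferInstance
  rcases eq_or_lt_of_le hLS with heq | hlt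
  · left
    intro t j ht hj hj3 hjm
    refine (su_dvd (H := L) (q := p ^ f) (j := j) hE (H981.Cov.isUnitaryForm_herm hE) ht hj hj3 hjm ?_).trans hLA
    intro z hz hd
    have h1 : z ∈ Cfsg.GU m E (p ^ f) ⊓ specialLinear (Fin m) E := by
      refine ⟨fun u v => ?_, hd⟩
      exact hz _ rfl u v
    rw [← heq] at h1
    exact h1.1
  · right
    obtain ⟨H, hH, hLH⟩ := H905.exists_isMaximalIn_of_lt hlt
    obtain ⟨K', hK', hHK⟩ := M hp hf hE hr hH (hLH ⟨hyL, hyS⟩) hyo hbig
    refine ⟨E, iE, iFE, K', L ⊓ specialLinear (Fin m) E, hE, hK', hLH.trans hHK, ?_⟩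
    refine hAL.trans (Nat.mul_dvd_mul_left 2 ?_)
    have := card_dvd_sl L
    rwa [hE] at this

/-- fields of full degree -/
theorem num_full {E : Type} [Field E] [Fintype E] {m q : ℕ} (hm : 0 < m) (hE : Fintype.card E = q ^ 2)
    {K : Subalgebra E (Matrix (Fin m) (Fin m) E)} (hK : IsFieldSubalgebra m K) {L : Subgroup (GL (Fin m) E)}
    (hL : L ≤ subalgebraNormalizer K) {c N : ℕ} (hc : c ∣ 2 * (Nat.card L * (q ^ 2 - 1))) (hN : N ∣ c)
    (hco : N.Coprime (q ^ (2 * m) - 1)) : N ∣ 2 * m := by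
  have hne : Nonempty (Fin m) := ⟨⟨0, hm⟩⟩
  have hfG : Finite (GL (Fin m) E) := inferInstance
  have h1 : Nat.card L ∣ m * (q ^ (2 * m) - 1) := by
    refine (card_dvd_cz hK hL).trans (Nat.mul_dvd_mul_left m ?_)
    refine (Subgroup.card_subgroup_dvd_card _).trans ?_
    have := card_cz_dvd hm hK
    rwa [hE, ← pow_mul] at this
  have h2 : q ^ 2 - 1 ∣ q ^ (2 * m) - 1 := by
    rw [pow_mul]
    have := Nat.sub_dvd_pow_sub_pow (q ^ 2) 1 m
    rwa [one_pow] at this
  have h3 : N ∣ 2 * (m * (q ^ (2 * m) - 1) * (q ^ 2 - 1)) :=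
    (hN.trans hc).trans (Nat.mul_dvd_mul_left 2 (Nat.mul_dvd_mul_right h1 _))
  have h4 : N ∣ (2 * m) * (q ^ (2 * m) - 1) := by
    refine (Nat.Coprime.coprime_dvd_right h2 hco).dvd_of_dvd_mul_right ?_
    have h5 : 2 * (m * (q ^ (2 * m) - 1) * (q ^ 2 - 1)) = 2 * m * (q ^ (2 * m) - 1) * (q ^ 2 - 1) := by ring
    rwa [h5] at h3
  exact hco.dvd_of_dvd_mul_right h4

/-- (T12) `m = 5` -/
theorem kext_five_of (M : MAX 5 5) {p f r a : ℕ} (hn : finrank F V = 10) (hQ : Nondeg Q) (hA : A ≤ O Q)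
    (hK : AExt 2 A) (hp : p.Prime) (hF : Fintype.card F = p ^ f) (hr : PP p (f * 10) r)
    {g : V ≃ₗ[F] V} (hg : g ∈ A) (ho : orderOf g = r ^ a) (hbig : 21 < r ^ a)
    (hN : ∃ N, N ∣ Nat.card A ∧ N.Coprime ((p ^ f) ^ 10 - 1) ∧ ¬ N ∣ 10) :
    (∀ t, PP (p ^ f) 6 t → t ∣ Nat.card A) ∨ (∀ t, PP (p ^ f) 8 t → t ∣ Nat.card A) := by
  rcases unit_main M (by decide) (by norm_num) (by rw [hn]) hQ hA hK hp hF hr hg ho (by omega) with
    h | ⟨E, i1, i2, K, L, hE, hK', hL, hc⟩
  · exact Or.inl fun t ht => h t 3 ht (by decide) le_rfl (by norm_num)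
  · exfalso
    obtain ⟨N, h1, h2, h3⟩ := hN
    exact h3 (num_full (by norm_num) hE hK' hL hc h1 h2)

/-- (T12) `m = 7` -/
theorem kext_seven_of (M : MAX 7 7) {p f r a : ℕ} (hn : finrank F V = 14) (hQ : Nondeg Q) (hA : A ≤ O Q)
    (hK : AExt 2 A) (hp : p.Prime) (hF : Fintype.card F = p ^ f) (hr : PP p (f * 14) r)
    {g : V ≃ₗ[F] V} (hg : g ∈ A) (ho : orderOf g = r ^ a) (hbig : 29 < r ^ a)
    (hN : ∃ N, N ∣ Nat.card A ∧ N.Coprime ((p ^ f) ^ 14 - 1) ∧ ¬ N ∣ 14) :
    (∀ t, PP (p ^ f) 10 t → t ∣ Nat.card A) ∨ (∀ t, PP (p ^ f) 12 t → t ∣ Nat.card A) := by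
  rcases unit_main M (by decide) (by norm_num) (by rw [hn]) hQ hA hK hp hF hr hg ho (by omega) with
    h | ⟨E, i1, i2, K, L, hE, hK', hL, hc⟩
  · exact Or.inl fun t ht => h t 5 ht (by decide) (by norm_num) (by norm_num)
  · exfalso
    obtain ⟨N, h1, h2, h3⟩ := hN
    exact h3 (num_full (by norm_num) hE hK' hL hc h1 h2)

/-- (T12) `m = 9` -/
theorem kext_nine_of (M : MAX 9 3) {p f r a : ℕ} (hn : finrank F V = 18) (hQ : Nondeg Q) (hA : A ≤ O Q)
    (hK : AExt 2 A) (hp : p.Prime) (hF : Fintype.card F = p ^ f) (hr : PP p (f * 18) r)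
    {g : V ≃ₗ[F] V} (hg : g ∈ A) (ho : orderOf g = r ^ a) (hbig : 37 < r ^ a)
    {t : ℕ} (ht : PP (p ^ f) 8 t) (htA : t ∣ Nat.card A) :
    (∀ t, PP (p ^ f) 14 t → t ∣ Nat.card A) ∨ (∀ t, PP (p ^ f) 16 t → t ∣ Nat.card A) := by
  rcases unit_main M (by decide) (by norm_num) (by rw [hn]) hQ hA hK hp hF hr hg ho (by omega) with
    h | ⟨E, i1, i2, K, L, hE, hK', hL, hc⟩
  · exact Or.inl fun t ht => h t 7 ht (by decide) (by norm_num) (by norm_num)
  · exfalso
    have hfG : Finite (GL (Fin 9) E) := inferInstance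
    have hq1 : 1 ≤ p ^ f := Nat.one_le_pow _ _ hp.pos
    have ht8 := ht.lt (by norm_num)
    have h1 := htA.trans hc
    have h2 : ¬ t ∣ (p ^ f) ^ 2 - 1 := by
      rw [ht.dvd_iff hq1]; decide
    have h3 : t ∣ Nat.card L := by
      rcases ht.prime.dvd_mul.1 h1 with h4 | h4
      · have := Nat.le_of_dvd (by norm_num) h4
        omega
      · exact (ht.prime.dvd_mul.1 h4).resolve_right h2
    have htE : ¬ t ∣ Nat.card E := by
      rw [Nat.card_eq_fintype_card, hE]
      intro h4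
      exact ht.not_dvd (by norm_num) (ht.prime.dvd_of_dvd_pow h4)
    rcases H251.GeoCard.extension (by norm_num) hK' ht.prime htE (h3.trans (Subgroup.card_dvd_of_le hL)) with
      h4 | ⟨i, hi1, hi2, hi3⟩
    · omega
    · rw [Fintype.card_fin] at hi2
      rw [Nat.card_eq_fintype_card, hE, ← pow_mul, ← pow_mul, ht.dvd_iff hq1] at hi3
      have hi4 : i ≤ 3 := hi2
      interval_cases i
      · revert hi3; decide
      · revert hi3; decide
      · revert hi3; decide

end Main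

end Cfsg.Agent.H83.Rg
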