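import Cfsg.Agent.H83.Rg.KOdd
import Cfsg.Agent.H951.Rg.Over
import Cfsg.Agent.H269.U5.Res

/-!
# `MAX 5 5`: maximal subgroups of `SU_5(q)` containing an element of order `r ^ a > 21` (S3691-T12, helper83)

`max55_of` : from the residual class (`Res5`, the text of `S5797`).
-/

set_option autoImplicit false

namespace Cfsg.Agent.H83.Rg

open Module Cfsg Cfsg.Geo Cfsg.Agent.H884.El
open scoped MatrixGroups Matrix

/-- the text of `S5797` -/
def Res5 : Prop := ∀ {F : Type} [Field F] [Fintype F] (q : ℕ) (_ : Fintype.card F = q ^ 2)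
    (H : Subgroup (Matrix.GeneralLinearGroup (Fin 5) F))
    (_ : Cfsg.Geo.IsMaximalIn (Cfsg.GU 5 F q ⊓ Cfsg.Geo.specialLinear (Fin 5) F) H) (_ : Cfsg.Geo.InUnitaryResidualClass H),
    ∃ P : Subgroup (Matrix.GeneralLinearGroup (Fin 5) F), Cfsg.Geo.IsResidualCore H P ∧ q.Prime ∧
    ((Nonempty ((P ⧸ (Cfsg.Geo.scalars (Fin 5) F).subgroupOf P) ≃* Matrix.ProjectiveSpecialLinearGroup (Fin 2) (ZMod 11)) ∧
      (q % 11 = 2 ∨ q % 11 = 6 ∨ q % 11 = 7 ∨ q % 11 = 8 ∨ q % 11 = 10)) ∨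
     ((∃ (K : Type) (_ : Field K) (_ : Fintype K), Fintype.card K = 4 ∧
      Nonempty ((P ⧸ (Cfsg.Geo.scalars (Fin 5) F).subgroupOf P) ≃* Cfsg.PSU 4 K 2)) ∧ q % 6 = 5))

/-- a prime power dividing `13200` or `51840`, `r ≥ 11`, is `11` -/
theorem small {r a : ℕ} (hr : r.Prime) (h11 : 10 < r) (h : r ^ a ∣ 13200 ∨ r ^ a ∣ 51840) (hbig : 21 < r ^ a) : False := by
  have ha : a ≠ 0 := by
    rintro rfl
    rw [pow_zero] at hbig
    omega
  have h1 : r ∣ 13200 ∨ r ∣ 51840 := h.imp (fun h => (dvd_pow_self r ha).trans h) (fun h => (dvd_pow_self r ha).trans h)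
  have h2 : r = 11 := by
    rcases h1 with h1 | h1
    · have h3 : r ∣ 2 ^ 4 * 3 * 5 ^ 2 * 11 := by norm_num; exact h1
      rcases hr.dvd_mul.1 h3 with h4 | h4
      · rcases hr.dvd_mul.1 h4 with h5 | h5
        · rcases hr.dvd_mul.1 h5 with h6 | h6
          · have := Nat.le_of_dvd (by norm_num) (hr.dvd_of_dvd_pow h6); omega
          · have := Nat.le_of_dvd (by norm_num) h6; omega
        · have := Nat.le_of_dvd (by norm_num) (hr.dvd_of_dvd_pow h5); omega
      · have := Nat.le_of_dvd (by norm_num) h4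
        omega
    · have h3 : r ∣ 2 ^ 7 * 3 ^ 4 * 5 := by norm_num; exact h1
      rcases hr.dvd_mul.1 h3 with h4 | h4
      · rcases hr.dvd_mul.1 h4 with h5 | h5
        · have := Nat.le_of_dvd (by norm_num) (hr.dvd_of_dvd_pow h5); omega
        · have := Nat.le_of_dvd (by norm_num) (hr.dvd_of_dvd_pow h5); omega
      · have := Nat.le_of_dvd (by norm_num) h4
        omega
  subst h2
  obtain ⟨b, rfl⟩ : ∃ b, a = b + 2 := ⟨a - 2, by
    have : a ≠ 1 := by rintro rfl; norm_num at hbig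
    omega⟩
  have h3 : 11 ^ 2 ∣ 13200 ∨ 11 ^ 2 ∣ 51840 :=
    h.imp (fun h => (pow_dvd_pow 11 (by omega)).trans h) (fun h => (pow_dvd_pow 11 (by omega)).trans h)
  revert h3
  norm_num

/-- **`MAX 5 5`** from the residual class -/
theorem max55_of (hres : Res5) : MAX 5 5 := by
  intro E _ _ p f r a hp hf hE hr H hH x hx ho hbig
  have ha : a ≠ 0 := by
    rintro rfl
    rw [pow_zero] at hbig
    omega
  rcases H951.Rg.ovr hp hf hE (by decide) (by norm_num) hr (hH.1.le.trans inf_le_left) hx ho ha with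
    ⟨s, K, hs, -, hsm, hK, hle⟩ | hR
  · have h3 : s = 5 := (Nat.prime_dvd_prime_iff_eq hs Nat.prime_five).1 hsm
    subst h3
    exact ⟨K, hK, hle⟩
  · exfalso
    obtain ⟨-, hd, -⟩ := H951.Rg.ord_neg_of_pp hp hf (by norm_num) (by decide) hr
    have hr10 : 10 < r := by
      have h1 := Nat.le_of_dvd (by have := hr.prime.two_le; omega) hd
      omega
    obtain ⟨P, hP, -, hcases⟩ := hres (p ^ f) hE H hH hR
    have hdvd := H951.Rg.core_dvd_pow (by norm_num) hP hr.prime (H951.Rg.not_dvd_pred hp hf hE (by norm_num) hr) hx ho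
    refine small hr.prime hr10 ?_ (by omega)
    rcases hcases with ⟨⟨e⟩, -⟩ | ⟨⟨K, i1, i2, hK, ⟨e⟩⟩, -⟩
    · left
      rw [Nat.card_congr (MulAut.congr e).toEquiv] at hdvd
      exact hdvd.trans H269.U5.card_aut_l211
    · right
      rw [Nat.card_congr (MulAut.congr e).toEquiv] at hdvd
      exact hdvd.trans (H269.U5.card_aut_u42 hK)

end Cfsg.Agent.H83.Rg
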